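/-
Divisors on absolute curves.
-/
import Groth.Prelude.Def_MeroDiv
import Groth.Agent.Lib.MeroK.Basic
import Mathlib.RingTheory.Ideal.MinimalPrime.Localization
import Mathlib.RingTheory.Ideal.AssociatedPrime.Finiteness
import Mathlib.AlgebraicGeometry.Stalk
import Mathlib.AlgebraicGeometry.Noetherian

set_option autoImplicit false

universe u

noncomputable section

open CategoryTheory AlgebraicGeometry TopologicalSpace Opposite Mero
open scoped nonZeroDivisors

namespace Groth.Agent.Lib.MeroCurve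

variable {C : Scheme.{u}}

/-- Hypothesis: local rings at closed points are one-dimensional. -/
def IsAbsCurve (C : Scheme.{u}) : Prop :=
  ∀ x : C, IsClosed ({x} : Set C) → ringKrullDim (C.presheaf.stalk x) = 1

theorem eq_of_specializes_of_not_isClosed [CompactSpace C] (hC : IsAbsCurve C) {x y : C}
    (hx : ¬ IsClosed ({x} : Set C)) (h : y ⤳ x) : y = x := by
  obtain ⟨c, hc, hcl⟩ := IsClosed.exists_closed_singleton (isClosed_closure (s := ({x} : Set C)))
    (Set.singleton_nonempty x).closure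
  have hxc : x ⤳ c := specializes_iff_mem_closure.mpr hc
  by_contra hne
  have hcx : x ≠ c := fun e ↦ hx (e ▸ hcl)
  let f := C.fromSpecStalk c
  have hr : ∀ z, z ⤳ c → ∃ p : PrimeSpectrum (C.presheaf.stalk c), f p = z := fun z hz ↦ by
    have : z ∈ Set.range f := by rw [Scheme.range_fromSpecStalk]; exact hz
    exact this
  obtain ⟨py, hpy⟩ := hr y (h.trans hxc)
  obtain ⟨px, hpx⟩ := hr x hxc
  obtain ⟨pc, hpc⟩ := hr c specializes_rfl
  have hlt : ∀ {p q : PrimeSpectrum (C.presheaf.stalk c)}, f p ⤳ f q → f p ≠ f q → p < q := by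
    intro p q hpq hne
    refine lt_of_le_of_ne ((PrimeSpectrum.le_iff_specializes p q).mpr ?_) fun e ↦ hne (by rw [e])
    exact f.isEmbedding.toIsInducing.specializes_iff.mp hpq
  have h1 : py < px := hlt (p := py) (q := px) (by rw [hpy, hpx]; exact h) (by rw [hpy, hpx]; exact hne)
  have h2 : px < pc := hlt (p := px) (q := pc) (by rw [hpx, hpc]; exact hxc) (by rw [hpx, hpc]; exact hcx)
  have hlen := Order.LTSeries.length_le_krullDim
    (RelSeries.fromListIsChain [py, px, pc] (by simp) (by simp [h1, h2]) : LTSeries _)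
  have hd := hC c hcl
  unfold ringKrullDim at hd
  rw [hd] at hlen
  simp [RelSeries.fromListIsChain] at hlen

theorem isUnit_of_mem_nonZeroDivisors_of_generic {x y : C} (h : y ⤳ x)
    (hy : ∀ z, z ⤳ y → z = y) {a : C.presheaf.stalk x} (ha : a ∈ (C.presheaf.stalk x)⁰) :
    IsUnit ((C.presheaf.stalkSpecializes h).hom a) := by
  let φ := C.presheaf.stalkSpecializes h
  let Q : PrimeSpectrum (C.presheaf.stalk x) :=
    PrimeSpectrum.comap φ.hom (IsLocalRing.closedPoint (C.presheaf.stalk y))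
  have hQ : C.fromSpecStalk x Q = y := by
    have := congrArg (fun g ↦ g (IsLocalRing.closedPoint (C.presheaf.stalk y)))
      (Scheme.SpecMap_stalkSpecializes_fromSpecStalk (X := C) h)
    exact this.trans Scheme.fromSpecStalk_closedPoint
  have hmin : Q.asIdeal ∈ minimalPrimes (C.presheaf.stalk x) := by
    rw [minimalPrimes_eq_minimals]
    refine ⟨Q.2, fun p hp hle ↦ ?_⟩
    let P : PrimeSpectrum (C.presheaf.stalk x) := ⟨p, hp⟩
    have hPQ : P ⤳ Q := (PrimeSpectrum.le_iff_specializes P Q).mp hle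
    have hz := hy (C.fromSpecStalk x P) (hQ ▸ hPQ.map (C.fromSpecStalk x).continuous)
    have := (C.fromSpecStalk x).isEmbedding.injective (hz.trans hQ.symm)
    rw [← this]
  by_contra hu
  exact Set.disjoint_left.mp (Ideal.disjoint_nonZeroDivisors_of_mem_minimalPrimes hmin)
    (show a ∈ Q.asIdeal from (IsLocalRing.mem_maximalIdeal _).mpr hu) ha

theorem isUnit_germ_of_specializes [CompactSpace C] (hC : IsAbsCurve C) {V : C.Opens} (a : Γ(C, V))
    {x y : C} (hx : x ∈ V) (hy : y ∈ V) (h : y ⤳ x) (hyc : ¬ IsClosed ({y} : Set C))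
    (ha : C.presheaf.germ V x hx a ∈ (C.presheaf.stalk x)⁰) :
    IsUnit (C.presheaf.germ V y hy a) := by
  have := isUnit_of_mem_nonZeroDivisors_of_generic h
    (fun z hz ↦ eq_of_specializes_of_not_isClosed hC hyc hz) ha
  rwa [← ConcreteCategory.comp_apply, TopCat.Presheaf.germ_stalkSpecializes] at this

variable [AlgebraicGeometry.IsNoetherian C]

omit [AlgebraicGeometry.IsNoetherian C] in
theorem finite_inter_of_forall_isClosed [NoetherianSpace C] (V : C.Opens) (Z : Set C)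
    (hZ : IsClosed Z) (h : ∀ y ∈ Z, y ∈ V → IsClosed ({y} : Set C)) :
    (Z ∩ (V : Set C)).Finite := by
  obtain ⟨S, hS, hSc, hSi, hZS⟩ : ∃ S : Set (Set C), S.Finite ∧ (∀ T ∈ S, IsClosed T) ∧
      (∀ T ∈ S, IsIrreducible T) ∧ Z = ⋃₀ S :=
    NoetherianSpace.exists_finite_set_isClosed_irreducible hZ
  have := hS.to_subtype
  refine (Set.finite_range fun T : S ↦ (hSi T.1 T.2).genericPoint).subset ?_
  · rintro y ⟨hyZ, hyV⟩
    obtain ⟨T, hT, hyT⟩ := Set.mem_sUnion.mp (hZS ▸ hyZ)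
    have hg := (hSi T hT).isGenericPoint_genericPoint (hSc T hT)
    have hgy := hg.specializes hyT
    have hgc := h _ (hZS ▸ Set.mem_sUnion.mpr ⟨T, hT, hg.mem⟩) (hgy.mem_open V.2 hyV)
    exact ⟨⟨T, hT⟩, (hgc.closure_eq ▸ (specializes_iff_mem_closure.mp hgy) :
      y ∈ ({(hSi T hT).genericPoint} : Set C)).symm⟩

theorem finite_not_isClosed (hC : IsAbsCurve C) : {y : C | ¬ IsClosed ({y} : Set C)}.Finite := by
  obtain ⟨S, hS, hSc, hSi, hu⟩ := NoetherianSpace.exists_finite_set_isClosed_irreducible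
    (isClosed_univ (X := C))
  have := hS.to_subtype
  refine (Set.finite_range fun T : S ↦ (hSi T.1 T.2).genericPoint).subset ?_
  intro y hy
  obtain ⟨T, hT, hyT⟩ := Set.mem_sUnion.mp (hu ▸ Set.mem_univ y)
  exact ⟨⟨T, hT⟩, eq_of_specializes_of_not_isClosed hC hy
    (((hSi T hT).isGenericPoint_genericPoint (hSc T hT)).specializes hyT)⟩

omit [AlgebraicGeometry.IsNoetherian C] in
theorem finite_nonunit_germ [NoetherianSpace C] {V : C.Opens} (a : Γ(C, V))
    (h : ∀ y (hy : y ∈ V), ¬ IsClosed ({y} : Set C) → IsUnit (C.presheaf.germ V y hy a)) :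
    {y : C | ∃ hy : y ∈ V, ¬ IsUnit (C.presheaf.germ V y hy a)}.Finite := by
  refine (finite_inter_of_forall_isClosed V ((C.basicOpen a : C.Opens) : Set C)ᶜ
    (C.basicOpen a).2.isClosed_compl fun y hy hyV ↦ ?_).subset ?_
  · by_contra hyc
    exact hy ((C.mem_basicOpen a y hyV).mpr (h y hyV hyc))
  · rintro y ⟨hy, hu⟩
    exact ⟨fun hb ↦ hu ((C.mem_basicOpen a y hy).mp hb), hy⟩

/-- Remove a finite set of closed points from an open. -/
def erasePts (V : C.Opens) (S : Set C) (hS : S.Finite) (hcl : ∀ s ∈ S, IsClosed ({s} : Set C)) :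
    C.Opens :=
  ⟨(V : Set C) \ S, V.2.sdiff (by
    rw [← Set.biUnion_of_singleton S]
    exact hS.isClosed_biUnion hcl)⟩

/-- A germ of nonzerodivisor at a closed point is the germ of a section which is a unit at all
other points of a small neighbourhood. -/
theorem exists_nhd (hC : IsAbsCurve C) {x : C} (hx : IsClosed ({x} : Set C))
    (a : C.presheaf.stalk x) (ha : a ∈ (C.presheaf.stalk x)⁰) :
    ∃ (V : C.Opens) (hxV : x ∈ V) (s : Γ(C, V)), C.presheaf.germ V x hxV s = a ∧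
      ∀ y (hy : y ∈ V), y ≠ x → IsUnit (C.presheaf.germ V y hy s) := by
  obtain ⟨V, hxV, s, rfl⟩ := TopCat.Presheaf.exists_germ_eq (F := C.presheaf) (x := x) a
  let G := {y : C | ¬ IsClosed ({y} : Set C) ∧ ¬ y ⤳ x}
  have hG : G.Finite := (finite_not_isClosed hC).subset fun y hy ↦ hy.1
  let V₁ : C.Opens := ⟨(V : Set C) \ ⋃ y ∈ G, closure {y},
    V.2.sdiff (hG.isClosed_biUnion fun _ _ ↦ isClosed_closure)⟩
  have hxV₁ : x ∈ V₁ := ⟨hxV, fun h ↦ by
    simp only [Set.mem_iUnion] at h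
    obtain ⟨y, hy, hyx⟩ := h
    exact hy.2 (specializes_iff_mem_closure.mpr hyx)⟩
  let s₁ := C.presheaf.map (homOfLE (fun y hy ↦ hy.1 : V₁ ≤ V)).op s
  have hs₁ : ∀ y (hy : y ∈ V₁), ¬ IsClosed ({y} : Set C) →
      IsUnit (C.presheaf.germ V₁ y hy s₁) := by
    intro y hy hyc
    have hyx : y ⤳ x := by
      by_contra hyx
      exact hy.2 (Set.mem_biUnion (show y ∈ G from ⟨hyc, hyx⟩) (subset_closure rfl))
    simp only [s₁, TopCat.Presheaf.germ_res_apply]
    exact isUnit_germ_of_specializes hC s hxV hy.1 hyx hyc ha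
  let B := {y : C | ∃ hy : y ∈ V₁, ¬ IsUnit (C.presheaf.germ V₁ y hy s₁)} \ {x}
  have hB : B.Finite := (finite_nonunit_germ s₁ hs₁).subset Set.sdiff_subset
  have hBc : ∀ y ∈ B, IsClosed ({y} : Set C) := fun y ⟨⟨hy, hu⟩, _⟩ ↦ by
    by_contra hyc
    exact hu (hs₁ y hy hyc)
  let V₂ := erasePts V₁ B hB hBc
  refine ⟨V₂, ⟨hxV₁, fun h ↦ h.2 rfl⟩,
    C.presheaf.map (homOfLE (fun y hy ↦ hy.1 : V₂ ≤ V₁)).op s₁, ?_, fun y hy hne ↦ ?_⟩
  · exact (TopCat.Presheaf.germ_res_apply _ _ _ _ _).trans (TopCat.Presheaf.germ_res_apply _ _ _ _ _)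
  · rw [TopCat.Presheaf.germ_res_apply]
    by_contra hu
    exact hy.2 ⟨⟨hy.1, hu⟩, hne⟩

omit [AlgebraicGeometry.IsNoetherian C] in
theorem mem_regSub_of_isUnit_off {x : C} {V : C.Opens} (hxV : x ∈ V) (s : Γ(C, V))
    (hs : C.presheaf.germ V x hxV s ∈ (C.presheaf.stalk x)⁰)
    (hu : ∀ y (hy : y ∈ V), y ≠ x → IsUnit (C.presheaf.germ V y hy s)) : s ∈ regSub C V := by
  rintro ⟨y, hy⟩
  by_cases h : y = x
  · subst h; exact hs
  · exact (hu y hy h).mem_nonZeroDivisors

theorem mem_regStalk (hC : IsAbsCurve C) {x : C} (hx : IsClosed ({x} : Set C))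
    {a : C.presheaf.stalk x} (ha : a ∈ (C.presheaf.stalk x)⁰) : a ∈ regStalk C x := by
  obtain ⟨V, hxV, s, rfl, hu⟩ := exists_nhd hC hx a ha
  exact ⟨V, hxV, s, mem_regSub_of_isUnit_off hxV s ha hu, rfl⟩

omit [AlgebraicGeometry.IsNoetherian C] in
/-- The class of a germ of regular section. -/
def cls {x : C} (a : regStalk C x) : Germ C x :=
  QuotientGroup.mk (IsLocalization.map_units (KStalk C x) a).unit

omit [AlgebraicGeometry.IsNoetherian C] in
theorem cls_eq_one {x : C} (a : regStalk C x) (ha : IsUnit a.1) : cls a = 1 :=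
  (QuotientGroup.eq_one_iff _).mpr ⟨ha.unit, Units.ext rfl⟩

omit [AlgebraicGeometry.IsNoetherian C] in
theorem mk_eq_div {x : C} (f : (KStalk C x)ˣ) (a b : regStalk C x)
    (h : (f : KStalk C x) * algebraMap _ _ b.1 = algebraMap _ _ a.1) :
    (QuotientGroup.mk f : Germ C x) = cls a / cls b := by
  have : f = (IsLocalization.map_units (KStalk C x) a).unit /
      (IsLocalization.map_units (KStalk C x) b).unit := eq_div_iff_mul_eq'.mpr (Units.ext h)
  rw [this]; rfl

omit [AlgebraicGeometry.IsNoetherian C] in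
theorem mem_nonZeroDivisors_of_isUnit_algebraMap {x : C} {a : C.presheaf.stalk x}
    (ha : IsUnit (algebraMap (C.presheaf.stalk x) (KStalk C x) a)) :
    a ∈ (C.presheaf.stalk x)⁰ :=
  mem_nonZeroDivisors_iff_right.mpr fun z hz ↦ algebraMap_KStalk_injective x (by
    rw [map_zero]
    exact ha.mul_left_eq_zero.mp (by rw [← map_mul, hz, map_zero]))

/-- Every germ of divisor is a quotient of classes of regular germs at closed points. -/
theorem exists_eq_div (hC : IsAbsCurve C) {x : C} (hx : IsClosed ({x} : Set C)) (g : Germ C x) :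
    ∃ a b : regStalk C x, g = cls a / cls b := by
  obtain ⟨f, rfl⟩ := QuotientGroup.mk_surjective g
  obtain ⟨⟨a, b⟩, hab⟩ := IsLocalization.surj (regStalk C x) (f : KStalk C x)
  have : IsUnit (algebraMap _ (KStalk C x) a) :=
    hab ▸ f.isUnit.mul (IsLocalization.map_units _ b)
  exact ⟨⟨a, mem_regStalk hC hx (mem_nonZeroDivisors_of_isUnit_algebraMap this)⟩, b,
    mk_eq_div f _ b hab⟩

theorem germ_eq_one (hC : IsAbsCurve C) {x : C} (hx : ¬ IsClosed ({x} : Set C))
    (g : Germ C x) : g = 1 := by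
  obtain ⟨f, rfl⟩ := QuotientGroup.mk_surjective g
  obtain ⟨⟨a, b⟩, hab⟩ := IsLocalization.surj (regStalk C x) (f : KStalk C x)
  have key : ∀ c : C.presheaf.stalk x, c ∈ (C.presheaf.stalk x)⁰ → IsUnit c := fun c hc ↦ by
    have := isUnit_of_mem_nonZeroDivisors_of_generic (specializes_refl x)
      (fun z hz ↦ eq_of_specializes_of_not_isClosed hC hx hz) hc
    rwa [TopCat.Presheaf.stalkSpecializes_refl] at this
  have hb := key b.1 (regStalk_le_nonZeroDivisors x b.2)
  have ha : IsUnit a := key a (mem_nonZeroDivisors_of_isUnit_algebraMap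
    (hab ▸ f.isUnit.mul (IsLocalization.map_units _ b)))
  have hf : f = Units.map (algebraMap _ (KStalk C x)).toMonoidHom (ha.unit / hb.unit) := by
    rw [map_div, eq_div_iff_mul_eq']
    exact Units.ext hab
  exact (QuotientGroup.eq_one_iff f).mpr ⟨_, hf.symm⟩

/-- A regular section is an invertible meromorphic function. -/
def toKUnit {U : C.Opens} (a : regSub C U) : (Γ(kmod C, U))ˣ where
  val := toK C U a.1
  inv := ⟨fun y ↦ LocalizedModule.mk 1 (regGerm y a),
    fun y ↦ ⟨U, y.2, 𝟙 _, 1, a, fun z ↦ mk_congr (map_one _).symm rfl⟩⟩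
  val_inv := Subtype.ext <| funext fun y ↦ by
    refine LocalizedModule.mk_mul_mk.trans ?_
    rw [mul_one, one_mul]
    exact mk_self_eq_one (regGerm y a)
  inv_val := Subtype.ext <| funext fun y ↦ by
    refine LocalizedModule.mk_mul_mk.trans ?_
    rw [one_mul, mul_one]
    exact mk_self_eq_one (regGerm y a)

omit [AlgebraicGeometry.IsNoetherian C] in
theorem germOf_toKUnit {U : C.Opens} (a : regSub C U) (y : U) :
    germOf (toKUnit a) y = cls (regGerm y a) := by
  refine congrArg QuotientGroup.mk (Units.ext ?_)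
  rfl

/-- Divisors on an absolute curve: families of germs with finite support. -/
theorem mem_divisorGroup_iff (hC : IsAbsCurve C) (g : ∀ x : C, Germ C x) :
    g ∈ divisorGroup C ↔
      ({x : C | g x ≠ 1}.Finite ∧ ∀ x : C, ¬ IsClosed ({x} : Set C) → g x = 1) := by
  refine ⟨fun hg ↦ ⟨?_, fun x hx ↦ germ_eq_one hC hx _⟩, fun ⟨hfin, _⟩ x ↦ ?_⟩
  · have hloc : ∀ x : C, ∃ V : C.Opens, x ∈ V ∧ ({y | g y ≠ 1} ∩ (V : Set C)).Finite := by
      intro x
      obtain ⟨U, hxU, f, hf⟩ := hg x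
      obtain ⟨V, hVU, hxV, a, b, h⟩ :=
        Groth.Agent.Lib.MeroK.Basic.exists_rep (f : Γ(kmod C, U)) ⟨x, hxU⟩
      let fy := fun (y : C) (hy : y ∈ V) ↦ Units.map (evalK C U ⟨y, hVU hy⟩).toMonoidHom f
      have ha : ∀ y (hy : y ∈ V), C.presheaf.germ V y hy a ∈ (C.presheaf.stalk y)⁰ := fun y hy ↦
        mem_nonZeroDivisors_of_isUnit_algebraMap (h y hy ▸ (fy y hy).isUnit.mul
          (IsLocalization.map_units _ (regGerm ⟨y, hy⟩ b)))
      have hu : ∀ (s : Γ(C, V)), (∀ y (hy : y ∈ V), C.presheaf.germ V y hy s ∈ (C.presheaf.stalk y)⁰) →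
          {y : C | ∃ hy : y ∈ V, ¬ IsUnit (C.presheaf.germ V y hy s)}.Finite := fun s hs ↦
        finite_nonunit_germ s fun y hy hyc ↦
          isUnit_germ_of_specializes hC s hy hy (specializes_refl y) hyc (hs y hy)
      refine ⟨V, hxV, ((hu a ha).union (hu b.1 fun y hy ↦ b.2 ⟨y, hy⟩)).subset ?_⟩
      rintro y ⟨hy1, hy⟩
      by_contra hn
      simp only [Set.mem_union, Set.mem_ofPred_eq, not_or, not_exists, not_not] at hn
      obtain ⟨hau, hbu⟩ := hn.1 hy, hn.2 hy
      apply hy1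
      rw [hf ⟨y, hVU hy⟩]
      refine (mk_eq_div (fy y hy) ⟨_, ?_⟩ (regGerm ⟨y, hy⟩ b) (h y hy)).trans ?_
      · by_cases hyc : IsClosed ({y} : Set C)
        · exact mem_regStalk hC hyc (ha y hy)
        · exact ⟨C.basicOpen a, (C.mem_basicOpen a y hy).mpr hau,
            C.presheaf.map (homOfLE (C.basicOpen_le a)).op a, fun z ↦ by
              rw [TopCat.Presheaf.germ_res_apply]; exact ha z.1 (C.basicOpen_le a z.2),
            TopCat.Presheaf.germ_res_apply _ _ _ _ _⟩
      · rw [cls_eq_one _ hau, cls_eq_one _ hbu, div_one]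
    choose V hV hVfin using hloc
    obtain ⟨t, ht⟩ := isCompact_univ.elim_finite_subcover (fun x ↦ (V x : Set C))
      (fun x ↦ (V x).2) (fun x _ ↦ Set.mem_iUnion.mpr ⟨x, hV x⟩)
    refine (Set.Finite.biUnion t.finite_toSet fun x _ ↦ hVfin x).subset fun y hy ↦ ?_
    obtain ⟨x, hx, hyx⟩ := Set.mem_iUnion₂.mp (ht (Set.mem_univ y))
    exact Set.mem_biUnion hx ⟨hy, hyx⟩
  · by_cases hx : g x = 1
    · have hcl : ∀ y ∈ {y : C | g y ≠ 1}, IsClosed ({y} : Set C) := fun y hy ↦ by
        by_contra h; exact hy (germ_eq_one hC h _)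
      refine ⟨erasePts ⊤ _ hfin hcl, ⟨trivial, fun h ↦ h hx⟩, 1, fun y ↦ ?_⟩
      rw [not_not.mp y.2.2, germOf, map_one, QuotientGroup.mk_one]
    · have hxc : IsClosed ({x} : Set C) := by
        by_contra h; exact hx (germ_eq_one hC h _)
      obtain ⟨a, b, hab⟩ := exists_eq_div hC hxc (g x)
      obtain ⟨Va, hxa, sa, hsa, hua⟩ := exists_nhd hC hxc a.1 (regStalk_le_nonZeroDivisors x a.2)
      obtain ⟨Vb, hxb, sb, hsb, hub⟩ := exists_nhd hC hxc b.1 (regStalk_le_nonZeroDivisors x b.2)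
      have hfin' : ({y : C | g y ≠ 1} \ {x}).Finite := hfin.subset Set.sdiff_subset
      have hcl' : ∀ y ∈ {y : C | g y ≠ 1} \ {x}, IsClosed ({y} : Set C) := fun y hy ↦ by
        by_contra h; exact hy.1 (germ_eq_one hC h _)
      let U := erasePts (Va ⊓ Vb) _ hfin' hcl'
      let ta : regSub C U := ⟨C.presheaf.map (homOfLE (fun y hy ↦ hy.1.1 : U ≤ Va)).op sa,
        regSub_res _ (mem_regSub_of_isUnit_off hxa sa
          (hsa ▸ regStalk_le_nonZeroDivisors x a.2) hua)⟩
      let tb : regSub C U := ⟨C.presheaf.map (homOfLE (fun y hy ↦ hy.1.2 : U ≤ Vb)).op sb,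
        regSub_res _ (mem_regSub_of_isUnit_off hxb sb
          (hsb ▸ regStalk_le_nonZeroDivisors x b.2) hub)⟩
      refine ⟨U, ⟨⟨hxa, hxb⟩, fun h ↦ h.2 rfl⟩, toKUnit ta / toKUnit tb, fun y ↦ ?_⟩
      rw [germOf, map_div, QuotientGroup.mk_div]
      show g y.1 = germOf (toKUnit ta) y / germOf (toKUnit tb) y
      rw [germOf_toKUnit, germOf_toKUnit]
      obtain ⟨y, hy⟩ := y
      by_cases hyx : y = x
      · subst hyx
        rw [hab]
        congr 1 <;> congr 1 <;> refine Subtype.ext ?_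
        · simp only [ta]; rw [TopCat.Presheaf.germ_res_apply]; exact hsa.symm
        · simp only [tb]; rw [TopCat.Presheaf.germ_res_apply]; exact hsb.symm
      · rw [cls_eq_one, cls_eq_one, div_one]
        · by_contra h; exact hy.2 ⟨h, hyx⟩
        · simp only [tb]; rw [TopCat.Presheaf.germ_res_apply]; exact hub y hy.1.2 hyx
        · simp only [ta]; rw [TopCat.Presheaf.germ_res_apply]; exact hua y hy.1.1 hyx

end Groth.Agent.Lib.MeroCurve
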