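/-
Regular non-units on every irreducible component of an absolute curve.
-/
import Groth.Agent.Lib.MeroCurve.Basic

set_option autoImplicit false

universe u

noncomputable section

open CategoryTheory AlgebraicGeometry TopologicalSpace Opposite Mero
open scoped nonZeroDivisors

namespace Groth.Agent.Lib.MeroCurve

variable {C : Scheme.{u}} [AlgebraicGeometry.IsNoetherian C]

omit [AlgebraicGeometry.IsNoetherian C] in
theorem cls_ne_one {x : C} (a : regStalk C x) (ha : ¬ IsUnit a.1) : cls a ≠ 1 := by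
  intro h
  obtain ⟨u, hu⟩ := (QuotientGroup.eq_one_iff _).mp h
  exact ha (algebraMap_KStalk_injective x (congrArg Units.val hu) ▸ u.isUnit)

theorem exists_regular_nonunit (hC : IsAbsCurve C) (hpt : ∀ x : C, ¬ IsOpen ({x} : Set C))
    (U : C.Opens) (hU : Dense (U : Set C)) (Z : Set C) (hZ : Z ∈ irreducibleComponents (C : Type u)) :
    ∃ x : C, x ∈ (U : Set C) ∧ x ∈ Z ∧ ∃ a : regStalk C x, ¬ IsUnit a.1 := by
  have hfin := NoetherianSpace.finite_irreducibleComponents (α := C)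
  let O : C.Opens := ⟨(⋃ W ∈ irreducibleComponents (C : Type u) \ {Z}, W)ᶜ,
    ((hfin.subset Set.sdiff_subset).isClosed_biUnion fun W hW ↦
      isClosed_of_mem_irreducibleComponents W hW.1).isOpen_compl⟩
  obtain ⟨η, hη⟩ : ∃ η, IsGenericPoint η Z :=
    ⟨_, hZ.1.isGenericPoint_genericPoint (isClosed_of_mem_irreducibleComponents Z hZ)⟩
  have hOZ : (O : Set C) ⊆ Z := fun y hy ↦ by
    by_contra hyZ
    exact hy (Set.mem_biUnion (show irreducibleComponent y ∈ irreducibleComponents (C : Type u) \ {Z} from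
      ⟨irreducibleComponent_mem_irreducibleComponents y,
        fun h ↦ hyZ (h ▸ mem_irreducibleComponent)⟩) mem_irreducibleComponent)
  have hηO : η ∈ O := fun h ↦ by
    obtain ⟨W, hW, hηW⟩ := Set.mem_iUnion₂.mp h
    have hle : Z ⊆ W := hη ▸ (isClosed_of_mem_irreducibleComponents W hW.1).closure_subset_iff.mpr
      (Set.singleton_subset_iff.mpr hηW)
    exact hW.2 (Set.Subset.antisymm (hZ.2 hW.1.1 hle) hle)
  have hηU : η ∈ U := by
    obtain ⟨y, hy, hyU⟩ := hU.inter_open_nonempty (O : Set C) O.2 ⟨η, hηO⟩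
    exact (hη.specializes (hOZ hy)).mem_open U.2 hyU
  obtain ⟨V, hV, hηV, hVsub⟩ := exists_isAffineOpen_mem_and_subset (U := O ⊓ U) ⟨hηO, hηU⟩
  have hclosed : ∀ y ∈ V, y ≠ η → IsClosed ({y} : Set C) := fun y hy hne ↦ by
    by_contra hyc
    exact hne (eq_of_specializes_of_not_isClosed hC hyc (hη.specializes (hOZ (hVsub hy).1))).symm
  -- `V` is infinite
  have hinf : (V : Set C).Infinite := by
    intro hf
    refine hpt η ?_
    have : ({η} : Set C) = (V : Set C) \ ((V : Set C) \ {η}) := by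
      rw [Set.sdiff_sdiff_right_self, Set.inter_eq_right.mpr (Set.singleton_subset_iff.mpr hηV)]
    rw [this]
    refine V.2.sdiff ?_
    rw [← Set.biUnion_of_singleton ((V : Set C) \ {η})]
    exact (hf.subset Set.sdiff_subset).isClosed_biUnion fun y hy ↦ hclosed y hy.1 hy.2
  have hN : IsNoetherianRing Γ(C, V) := IsLocallyNoetherian.component_noetherian ⟨V, hV⟩
  have hAss := associatedPrimes.finite Γ(C, V) Γ(C, V)
  -- choose a point of `V` which is neither generic nor associated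
  have hbad : {y : C | ∃ hy : y ∈ V, (hV.primeIdealOf ⟨y, hy⟩).asIdeal ∈
      associatedPrimes Γ(C, V) Γ(C, V)}.Finite := by
    refine (((hAss.preimage (f := fun P : PrimeSpectrum Γ(C, V) ↦ P.asIdeal)
      (fun P _ Q _ h ↦ PrimeSpectrum.ext h)).image hV.fromSpec).subset ?_ :)
    rintro y ⟨hy, h⟩
    exact ⟨hV.primeIdealOf ⟨y, hy⟩, h, hV.fromSpec_primeIdealOf ⟨y, hy⟩⟩
  obtain ⟨y, hyV, hy⟩ := hinf.exists_notMem_finset (hbad.union (Set.finite_singleton η)).toFinset
  simp only [Set.Finite.mem_toFinset, Set.mem_union, Set.mem_singleton_iff, not_or] at hy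
  obtain ⟨hy1, hy2⟩ := hy
  have hyc := hclosed y hyV hy2
  let P := hV.primeIdealOf ⟨y, hyV⟩
  have hPmax : P.asIdeal.IsMaximal := by
    rw [← PrimeSpectrum.isClosed_singleton_iff_isMaximal]
    have h := hyc.preimage hV.fromSpec.continuous
    have heq : (hV.fromSpec ⁻¹' {y} : Set (PrimeSpectrum Γ(C, V))) = {P} :=
      Set.eq_singleton_iff_unique_mem.mpr ⟨hV.fromSpec_primeIdealOf ⟨y, hyV⟩,
        fun Q hQ ↦ hV.fromSpec.isOpenEmbedding.injective
          (hQ.trans (hV.fromSpec_primeIdealOf ⟨y, hyV⟩).symm)⟩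
    exact heq ▸ h
  obtain ⟨f, hfP, hf⟩ : ∃ f ∈ P.asIdeal, f ∈ (Γ(C, V))⁰ := by
    by_contra! h
    have hsub : (P.asIdeal : Set Γ(C, V)) ⊆
        ⋃ Q ∈ hAss.toFinset, (Q : Set Γ(C, V)) := by
      intro f hf
      have : f ∈ (⋃ Q ∈ associatedPrimes Γ(C, V) Γ(C, V), (Q : Set Γ(C, V))) :=
        biUnion_associatedPrimes_eq_compl_nonZeroDivisors Γ(C, V) ▸ h f hf
      simpa using this
    obtain ⟨Q, hQ, hle⟩ := (Ideal.subset_union_prime ⊥ ⊥
      fun Q hQ _ _ ↦ (hAss.mem_toFinset.mp hQ).isPrime).mp hsub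
    rw [Set.Finite.mem_toFinset] at hQ
    exact hy1 ⟨hyV, (hPmax.eq_of_le hQ.isPrime.ne_top hle).symm ▸ hQ⟩
  let : Algebra Γ(C, V) (C.presheaf.stalk y) := TopCat.Presheaf.algebra_section_stalk C.presheaf ⟨y, hyV⟩
  have hloc : IsLocalization.AtPrime (C.presheaf.stalk y) P.asIdeal := hV.isLocalization_stalk ⟨y, hyV⟩
  have hnzd : algebraMap Γ(C, V) (C.presheaf.stalk y) f ∈ (C.presheaf.stalk y)⁰ :=
    IsLocalization.map_nonZeroDivisors_le P.asIdeal.primeCompl (C.presheaf.stalk y)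
      (Submonoid.mem_map_of_mem _ hf)
  refine ⟨y, (hVsub hyV).2, hOZ (hVsub hyV).1, ⟨_, mem_regStalk hC hyc hnzd⟩, fun hu ↦ ?_⟩
  exact (IsLocalization.AtPrime.isUnit_to_map_iff (C.presheaf.stalk y) P.asIdeal f).mp hu hfP

end Groth.Agent.Lib.MeroCurve
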